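import Mathlib
import Cfsg.Agent.ClassificationK.SpreadField
import Cfsg.Agent.LieClassical.SLTwoUnipotent
set_option linter.all false

-- part: H218/SpreadField
section
/-!
# Spread sets closed under inversion are fields (every prime `p`)

A finite additive subgroup of `End(A)`, `A` an elementary abelian `p`-group, of order `|A|`, containing the identity
and closed (with a companion subgroup) under inversion, is the field of multiplications for a suitable
identification of `A` with a finite field.  (`p = 2`: `ClassificationK.SpreadField`.)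
-/

set_option autoImplicit false

namespace Cfsg.Agent.H218.SpreadField

open Cfsg.Agent.ClassificationK.SpreadComm Cfsg.Agent.ClassificationK.SpreadField

section Matrix

variable {n p : ℕ}

/-- commutativity, matrix form, for submodules -/
theorem comm_submodule [Fact p.Prime] (hn : 0 < n) (S : Submodule (ZMod p) (Matrix (Fin n) (Fin n) (ZMod p)))
    (hcard : Nat.card S = p ^ n) (h1 : 1 ∈ S)
    (hdet : ∀ x ∈ S, x ≠ 0 → x.det ≠ 0)
    (htri : ∀ a ∈ S, ∀ b ∈ S, a * b * a ∈ S) {x y : Matrix (Fin n) (Fin n) (ZMod p)}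
    (hx : x ∈ S) (hy : y ∈ S) : x * y = y * x := by
  have hp : p.Prime := Fact.out
  have hfr : Module.finrank (ZMod p) S = n := by
    have h := Module.natCard_eq_pow_finrank (K := ZMod p) (V := S)
    rw [hcard, Nat.card_zmod] at h
    exact (Nat.pow_right_injective hp.two_le h).symm
  let b := Module.finBasisOfFinrankEq (ZMod p) S hfr
  let u : Fin n → Matrix (Fin n) (Fin n) (ZMod p) := fun i => (b i : Matrix (Fin n) (Fin n) (ZMod p))
  have hspan : Submodule.span (ZMod p) (Set.range u) = S := by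
    have h := congrArg (Submodule.map S.subtype) b.span_eq
    rw [Submodule.map_span, ← Set.range_comp, Submodule.map_top, Submodule.range_subtype] at h
    exact h
  have hu : ∀ i j, u i * u j = u j * u i := by
    refine commute_of_spread hn u ?_ ?_ ?_
    · intro x hx
      have h1 : (∑ i, x i • u i) = ((∑ i, x i • b i : S) : Matrix (Fin n) (Fin n) (ZMod p)) := by
        simp [u]
      rw [h1]
      refine hdet _ (Subtype.mem _) ?_
      intro h2
      apply hx
      have h3 : (∑ i, x i • b i : S) = 0 := Subtype.ext h2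
      funext i
      exact (Fintype.linearIndependent_iff.1 b.linearIndependent) x h3 i
    · rw [hspan]; exact h1
    · rw [hspan]; exact htri
  rw [← hspan] at hx hy
  induction hx using Submodule.span_induction with
  | mem x hx =>
    obtain ⟨i, rfl⟩ := hx
    induction hy using Submodule.span_induction with
    | mem y hy => obtain ⟨j, rfl⟩ := hy; exact hu i j
    | zero => simp
    | add y z _ _ h h' => rw [mul_add, add_mul, h, h']
    | smul c y _ h => rw [mul_smul_comm, smul_mul_assoc, h]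
  | zero => simp
  | add x z _ _ h h' => rw [mul_add, add_mul, h, h']
  | smul c x _ h => rw [mul_smul_comm, smul_mul_assoc, h]

end Matrix

/-- commutativity for endomorphisms of an elementary abelian `p`-group -/
theorem comm_end_aux {p : ℕ} [Fact p.Prime] {A : Type*} [AddCommGroup A] [Finite A] [Nontrivial A]
    [Module (ZMod p) A]
    (K : AddSubgroup (AddMonoid.End A)) (hcard : Nat.card K = Nat.card A) (h1 : 1 ∈ K)
    (hinv : ∀ k ∈ K, k ≠ 0 → ∃ l ∈ K, k * l = 1 ∧ l * k = 1) {x y : AddMonoid.End A}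
    (hx : x ∈ K) (hy : y ∈ K) : x * y = y * x := by
  classical
  have := nontrivial_end A
  have : Module.Finite (ZMod p) A := Module.Finite.of_finite
  let n := Module.finrank (ZMod p) A
  have hcardA : Nat.card A = p ^ n := by
    have h := Module.natCard_eq_pow_finrank (K := ZMod p) (V := A)
    rw [Nat.card_zmod] at h
    exact h
  have hn : 0 < n := by
    by_contra hcon
    have h0 : n = 0 := by omega
    rw [h0, pow_zero] at hcardA
    have := Finite.one_lt_card (α := A)
    omega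
  let b : Module.Basis (Fin n) (ZMod p) A := Module.finBasis (ZMod p) A
  let Φ : AddMonoid.End A →+* Matrix (Fin n) (Fin n) (ZMod p) :=
    { toFun := fun k => LinearMap.toMatrix b b (AddMonoidHom.toZModLinearMap p k)
      map_one' := by
        have : (AddMonoidHom.toZModLinearMap p (1 : AddMonoid.End A)) = LinearMap.id := by ext; rfl
        rw [this, LinearMap.toMatrix_id]
      map_mul' := fun f g => by
        have : (AddMonoidHom.toZModLinearMap p (f * g : AddMonoid.End A))
            = (AddMonoidHom.toZModLinearMap p f).comp (AddMonoidHom.toZModLinearMap p g) := by ext; rfl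
        rw [this, LinearMap.toMatrix_comp b b b]
      map_zero' := by
        have : (AddMonoidHom.toZModLinearMap p (0 : AddMonoid.End A)) = 0 := by ext; rfl
        rw [this, map_zero]
      map_add' := fun f g => by
        have : (AddMonoidHom.toZModLinearMap p (f + g : AddMonoid.End A))
            = (AddMonoidHom.toZModLinearMap p f) + (AddMonoidHom.toZModLinearMap p g) := by ext; rfl
        rw [this, map_add] }
  have hΦ : Function.Injective Φ := by
    intro f g h
    have h' := (LinearMap.toMatrix b b).injective h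
    exact AddMonoidHom.toZModLinearMap_injective p h'
  let S : Submodule (ZMod p) (Matrix (Fin n) (Fin n) (ZMod p)) :=
    AddSubgroup.toZModSubmodule p (K.map Φ.toAddMonoidHom)
  have hmemS : ∀ m, m ∈ S ↔ ∃ k ∈ K, Φ k = m := by
    intro m
    exact Iff.rfl
  have hcS : Nat.card S = p ^ n := by
    rw [← hcardA, ← hcard]
    symm
    refine Nat.card_congr (Equiv.ofBijective (fun k : K => (⟨Φ k, ⟨k, k.2, rfl⟩⟩ : S)) ⟨?_, ?_⟩)
    · intro k k' h
      exact Subtype.ext (hΦ (congrArg Subtype.val h))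
    · rintro ⟨m, hm⟩
      obtain ⟨k, hk, rfl⟩ := (hmemS m).1 hm
      exact ⟨⟨k, hk⟩, rfl⟩
  have h := comm_submodule hn S hcS ((hmemS 1).2 ⟨1, h1, map_one Φ⟩) ?_ ?_
    ((hmemS _).2 ⟨x, hx, rfl⟩) ((hmemS _).2 ⟨y, hy, rfl⟩)
  · rw [← map_mul, ← map_mul] at h
    exact hΦ h
  · intro m hm hm0 hdet
    obtain ⟨k, hk, rfl⟩ := (hmemS m).1 hm
    have hk0 : k ≠ 0 := by
      intro h; rw [h, map_zero] at hm0; exact hm0 rfl
    obtain ⟨l, _, hkl, _⟩ := hinv k hk hk0
    have h := congrArg Φ hkl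
    rw [map_mul, map_one] at h
    have h' := congrArg Matrix.det h
    rw [Matrix.det_mul, hdet, zero_mul, Matrix.det_one] at h'
    exact zero_ne_one h'
  · intro a ha c hc
    obtain ⟨k, hk, rfl⟩ := (hmemS a).1 ha
    obtain ⟨l, hl, rfl⟩ := (hmemS c).1 hc
    exact (hmemS _).2 ⟨k * l * k, triple_mem K hinv hk hl, by rw [map_mul, map_mul]⟩

/-- commutativity for endomorphisms of an elementary abelian `p`-group -/
theorem comm_end {p : ℕ} [Fact p.Prime] {A : Type*} [AddCommGroup A] [Finite A] [Nontrivial A]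
    (h2 : ∀ a : A, p • a = 0)
    (K : AddSubgroup (AddMonoid.End A)) (hcard : Nat.card K = Nat.card A) (h1 : 1 ∈ K)
    (hinv : ∀ k ∈ K, k ≠ 0 → ∃ l ∈ K, k * l = 1 ∧ l * k = 1) {x y : AddMonoid.End A}
    (hx : x ∈ K) (hy : y ∈ K) : x * y = y * x := by
  let : Module (ZMod p) A := AddCommGroup.zmodModule h2
  exact comm_end_aux (p := p) K hcard h1 hinv hx hy

/-- **Main result.** -/
theorem exists_field {p : ℕ} [Fact p.Prime] {A : Type*} [AddCommGroup A] [Finite A] [Nontrivial A]
    (h2 : ∀ a : A, p • a = 0)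
    (K L : AddSubgroup (AddMonoid.End A)) (hcard : Nat.card K = Nat.card A) (h1 : 1 ∈ K)
    (hKL : ∀ k ∈ K, k ≠ 0 → ∃ l ∈ L, k * l = 1 ∧ l * k = 1)
    (hLK : ∀ l ∈ L, l ≠ 0 → ∃ k ∈ K, k * l = 1 ∧ l * k = 1) :
    ∃ (F : Type) (_ : Field F) (_ : Fintype F), Fintype.card F = Nat.card A ∧ ∃ e : A ≃+ F,
      (∀ k : AddMonoid.End A, k ∈ K ↔ ∃ c : F, ∀ a, e (k a) = c * e a) ∧
      (∀ l : AddMonoid.End A, l ∈ L ↔ ∃ c : F, ∀ a, e (l a) = c * e a) := by
  classical
  have hp : p.Prime := Fact.out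
  by_cases hp2 : p = 2
  · subst hp2
    exact Cfsg.Agent.ClassificationK.SpreadField.exists_field
      (fun a => by rw [← two_nsmul]; exact h2 a) K L hcard h1 hKL hLK
  have := nontrivial_end A
  have hLeq : L = K := eq_of_inv K L h1 hKL hLK
  subst hLeq
  have hinv := hKL
  have hcomm : ∀ x ∈ L, ∀ y ∈ L, x * y = y * x := fun x hx y hy =>
    comm_end h2 L hcard h1 hinv hx hy
  have hfinE : Finite (AddMonoid.End A) := by
    apply Finite.of_injective (fun f : AddMonoid.End A => (f : A → A))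
    intro f g h
    exact AddMonoidHom.ext (fun a => congrFun h a)
  have hmul : ∀ x ∈ L, ∀ y ∈ L, x * y ∈ L := by
    intro x hx y hy
    -- `2 x y = (x + 1) y (x + 1) - x y x - y`
    have h3 : x * y + x * y ∈ L := by
      have h4 := L.sub_mem (L.sub_mem (triple_mem L hinv (L.add_mem hx h1) hy)
        (triple_mem L hinv hx hy)) hy
      have h5 : (x + 1) * y * (x + 1) - x * y * x - y = x * y + y * x := by noncomm_ring
      rw [h5, ← hcomm x hx y hy] at h4
      exact h4
    obtain ⟨m, hm⟩ : ∃ m, p = 2 * m + 1 := by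
      obtain ⟨m, hm⟩ := hp.odd_of_ne_two hp2
      exact ⟨m, hm⟩
    have h6 : x * y = -(m • (x * y + x * y)) := by
      have h7 : p • (x * y) = 0 := by
        ext a
        exact h2 ((x * y) a)
      rw [hm, add_nsmul, one_nsmul, mul_comm 2 m, mul_nsmul, two_nsmul] at h7
      have h8 : m • (x * y + x * y) = m • (x * y) + m • (x * y) := nsmul_add _ _ _
      rw [h8]
      exact eq_neg_of_add_eq_zero_right h7
    rw [h6]
    exact L.neg_mem (L.nsmul_mem h3 m)
  let S : Subring (AddMonoid.End A) :=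
    { carrier := L
      mul_mem' := fun {x y} hx hy => hmul x hx y hy
      one_mem' := h1
      add_mem' := fun {x y} hx hy => L.add_mem hx hy
      zero_mem' := L.zero_mem
      neg_mem' := fun {x} hx => L.neg_mem hx }
  have hSL : ∀ x, x ∈ S ↔ x ∈ L := fun x => Iff.rfl
  have hSf : IsField S :=
    { exists_pair_ne := ⟨0, 1, zero_ne_one⟩
      mul_comm := fun x y => Subtype.ext (hcomm _ x.2 _ y.2)
      mul_inv_cancel := fun {x} hx => by
        have hx' : (x : AddMonoid.End A) ≠ 0 := fun h => hx (Subtype.ext h)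
        obtain ⟨l, hl, h, _⟩ := hinv x x.2 hx'
        exact ⟨⟨l, hl⟩, Subtype.ext h⟩ }
  let fS : Field S := hSf.toField
  have hfinS : Finite S := inferInstance
  let ε : Carrier (Nat.card S) ≃ S := (Finite.equivFin S).symm
  let fF : Field (Carrier (Nat.card S)) := ε.field
  let ρ : Carrier (Nat.card S) ≃+* S := ε.ringEquiv
  have hcS : Nat.card S = Nat.card A := hcard
  obtain ⟨v, hv⟩ := exists_ne (0 : A)
  -- evaluation at v
  let ev : S →+ A :=
    { toFun := fun s => (s : AddMonoid.End A) v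
      map_zero' := rfl
      map_add' := fun s t => rfl }
  have hev : Function.Injective ev := by
    rw [injective_iff_map_eq_zero]
    intro s hs
    by_contra hs0
    have hs' : (s : AddMonoid.End A) ≠ 0 := fun h => hs0 (Subtype.ext h)
    obtain ⟨l, _, _, hl⟩ := hinv s s.2 hs'
    have h3 : (l * (s : AddMonoid.End A)) v = v := by rw [hl]; rfl
    have h4 : (l * (s : AddMonoid.End A)) v = l ((s : AddMonoid.End A) v) := rfl
    have h5 : (s : AddMonoid.End A) v = 0 := hs
    rw [h4, h5, map_zero] at h3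
    exact hv h3.symm
  have hbij : Function.Bijective ev := by
    refine (Nat.bijective_iff_injective_and_card ev).2 ⟨hev, hcS⟩
  let evE : S ≃+ A := AddEquiv.ofBijective ev hbij
  refine ⟨Carrier (Nat.card S), fF, carrierFintype _, ?_, evE.symm.trans ρ.toAddEquiv.symm, ?_, ?_⟩
  · exact (Fintype.card_fin _).trans hcS
  all_goals
    intro k
    constructor
    · intro hk
      refine ⟨ρ.symm ⟨k, hk⟩, fun a => ?_⟩
      obtain ⟨s, rfl⟩ := evE.surjective a
      have h3 : k (evE s) = evE ((⟨k, hk⟩ : S) * s) := rfl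
      rw [h3]
      change ρ.symm (evE.symm (evE _)) = ρ.symm ⟨k, hk⟩ * ρ.symm (evE.symm (evE s))
      rw [AddEquiv.symm_apply_apply, AddEquiv.symm_apply_apply, map_mul]
    · rintro ⟨c, hc⟩
      have h3 : k = (ρ c : AddMonoid.End A) := by
        refine AddMonoidHom.ext fun a => ?_
        obtain ⟨s, rfl⟩ := evE.surjective a
        have h4 := hc (evE s)
        change ρ.symm (evE.symm (k (evE s))) = c * ρ.symm (evE.symm (evE s)) at h4
        rw [AddEquiv.symm_apply_apply] at h4
        have h5 := congrArg ρ h4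
        rw [map_mul, RingEquiv.apply_symm_apply, RingEquiv.apply_symm_apply] at h5
        have h6 := congrArg evE h5
        rw [AddEquiv.apply_symm_apply] at h6
        exact h6
      rw [h3]
      exact (ρ c).2

end Cfsg.Agent.H218.SpreadField
end

-- part: H218/SpreadNat
section
/-!
# Two opposite quadratic groups generate `SL₂(F)` (every prime `p`)

`L` acts on the elementary abelian `p`-group `M` (additive); `A, B ≤ L` with fixed spaces `U`, `W`, `M = U ⊕ W`,
`[M, A] ≤ U`, `[M, B] ≤ W`, `|A| = |W|`, no nontrivial element of `A` (`B`) fixes a nonzero element of `W` (`U`), and for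
every `a ∈ A#` there is `b ∈ B` with `a W = b U` (in the form `β_b ∘ α_a = 1`).  If `L = ⟨A, B⟩` then `L` induces
`SL₂(F)`, `|F| = |A|`, on `M`, the natural module.
-/

set_option autoImplicit false
set_option linter.unusedSectionVars false
set_option linter.unusedVariables false

namespace Cfsg.Agent.H218.SpreadNat

open Cfsg.Agent.LieClassical.SLTwoUnipotent

/-- Two opposite quadratic groups. -/
structure Spread {L M : Type*} [Group L] [AddCommGroup M] [DistribMulAction L M] (A B : Subgroup L)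
    (U W : AddSubgroup M) : Prop where
  fixU : ∀ a ∈ A, ∀ u ∈ U, a • u = u
  fixW : ∀ b ∈ B, ∀ w ∈ W, b • w = w
  memU : ∀ a ∈ A, ∀ m : M, a • m - m ∈ U
  memW : ∀ b ∈ B, ∀ m : M, b • m - m ∈ W
  inf : ∀ m ∈ U, m ∈ W → m = 0
  sup : ∀ m : M, ∃ u ∈ U, ∃ w ∈ W, u + w = m
  card : Nat.card A = Nat.card W
  inj : ∀ a ∈ A, ∀ w ∈ W, a • w = w → a = 1 ∨ w = 0
  inj' : ∀ b ∈ B, ∀ u ∈ U, b • u = u → b = 1 ∨ u = 0
  inv : ∀ a ∈ A, a ≠ 1 → ∃ b ∈ B, ∀ w ∈ W, b • (a • w - w) - (a • w - w) = w
  ne : ∃ a ∈ A, a ≠ 1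

namespace Spread

variable {L M : Type*} [Group L] [AddCommGroup M] [DistribMulAction L M] {A B : Subgroup L}
  {U W : AddSubgroup M} (h : Spread A B U W)
include h

theorem exists_ne_W [Finite A] [Finite W] : ∃ w ∈ W, w ≠ 0 := by
  obtain ⟨a, ha, ha1⟩ := h.ne
  by_contra hcon
  push Not at hcon
  have h1 : Nat.card W = 1 := by
    rw [Nat.card_eq_one_iff_unique]
    exact ⟨⟨fun x y => Subtype.ext ((hcon x x.2).trans (hcon y y.2).symm)⟩, ⟨0⟩⟩
  rw [← h.card, Nat.card_eq_one_iff_unique] at h1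
  have := h1.1
  exact ha1 (congrArg Subtype.val (Subsingleton.elim (⟨a, ha⟩ : A) 1))

theorem inv_ne {a b : L} (hinv : ∀ w ∈ W, b • (a • w - w) - (a • w - w) = w) [Finite A] [Finite W] :
    b ≠ 1 := by
  rintro rfl
  obtain ⟨w, hw, hw0⟩ := h.exists_ne_W
  have := hinv w hw
  rw [one_smul, sub_self] at this
  exact hw0 this.symm

/-- the converse relation -/
theorem inv_symm {a b : L} (ha : a ∈ A) (hb : b ∈ B) (hinv : ∀ w ∈ W, b • (a • w - w) - (a • w - w) = w)
    [Finite A] [Finite W] : ∀ u ∈ U, a • (b • u - u) - (b • u - u) = u := by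
  intro u hu
  have hb1 := h.inv_ne hinv
  have h1 := hinv (b • u - u) (h.memW b hb u)
  -- `b • x - x = b • u - u` for `x = a • w - w`, `w = b • u - u`
  have h2 : b • (a • (b • u - u) - (b • u - u) - u) = a • (b • u - u) - (b • u - u) - u := by
    rw [smul_sub (b : L) (a • (b • u - u) - (b • u - u)) u]
    have h3 : b • (a • (b • u - u) - (b • u - u)) = (a • (b • u - u) - (b • u - u)) + (b • u - u) := by
      rw [← sub_eq_iff_eq_add']; exact h1
    rw [h3]; abel
  have h4 := (h.inj' b hb _ (U.sub_mem (h.memU a ha _) hu) h2).resolve_left hb1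
  exact sub_eq_zero.1 h4

theorem add_A {a a' : L} (ha : a ∈ A) (ha' : a' ∈ A) (m : M) :
    (a * a') • m - m = (a • m - m) + (a' • m - m) := by
  rw [mul_smul]
  have h1 : a • (a' • m - m) = a' • m - m := h.fixU a ha _ (h.memU a' ha' m)
  have h2 : a • (a' • m) = a • m + (a' • m - m) := by
    conv_rhs => rw [← h1]
    rw [← smul_add]; congr 1; abel
  rw [h2]; abel

theorem add_B {b b' : L} (hb : b ∈ B) (hb' : b' ∈ B) (m : M) :
    (b * b') • m - m = (b • m - m) + (b' • m - m) := by
  rw [mul_smul]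
  have h1 : b • (b' • m - m) = b' • m - m := h.fixW b hb _ (h.memW b' hb' m)
  have h2 : b • (b' • m) = b • m + (b' • m - m) := by
    conv_rhs => rw [← h1]
    rw [← smul_add]; congr 1; abel
  rw [h2]; abel

theorem eq_of_A {a a' : L} (ha : a ∈ A) (ha' : a' ∈ A) {w : M} (hw : w ∈ W) (hw0 : w ≠ 0)
    (he : a • w - w = a' • w - w) : a = a' := by
  have h1 : a • w = a' • w := sub_left_injective he
  have h2 : (a'⁻¹ * a) • w = w := by rw [mul_smul, h1, inv_smul_smul]
  have h3 := (h.inj _ (mul_mem (inv_mem ha') ha) w hw h2).resolve_right hw0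
  exact (inv_mul_eq_one.1 h3).symm

theorem eq_of_B {b b' : L} (hb : b ∈ B) (hb' : b' ∈ B) {u : M} (hu : u ∈ U) (hu0 : u ≠ 0)
    (he : b • u - u = b' • u - u) : b = b' := by
  have h1 : b • u = b' • u := sub_left_injective he
  have h2 : (b'⁻¹ * b) • u = u := by rw [mul_smul, h1, inv_smul_smul]
  have h3 := (h.inj' _ (mul_mem (inv_mem hb') hb) u hu h2).resolve_right hu0
  exact (inv_mul_eq_one.1 h3).symm

/-- the relation `a ↔ b` is a bijection between `A#` and `B#` -/
theorem inv' [Finite A] [Finite W] : ∀ b ∈ B, b ≠ 1 → ∃ a ∈ A, a ≠ 1 ∧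
    ∀ w ∈ W, b • (a • w - w) - (a • w - w) = w := by
  classical
  obtain ⟨a₀, ha₀, ha₀1⟩ := h.ne
  obtain ⟨w₀, hw₀, hw₀0⟩ := h.exists_ne_W
  have hu₀ : a₀ • w₀ - w₀ ∈ U := h.memU a₀ ha₀ w₀
  have hu₀0 : a₀ • w₀ - w₀ ≠ 0 := fun h0 =>
    (h.inj a₀ ha₀ w₀ hw₀ (sub_eq_zero.1 h0)).elim ha₀1 hw₀0
  set u₀ := a₀ • w₀ - w₀ with hu₀def
  -- `B` embeds in `W`
  let ι : B → W := fun b => ⟨(b : L) • u₀ - u₀, h.memW b b.2 u₀⟩
  have hι : Function.Injective ι := by
    intro b b' hbb
    exact Subtype.ext (h.eq_of_B b.2 b'.2 hu₀ hu₀0 (congrArg Subtype.val hbb))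
  have hfB : Finite B := Finite.of_injective ι hι
  have hcard : Nat.card B ≤ Nat.card A := by
    rw [h.card]; exact Nat.card_le_card_of_injective ι hι
  -- the map `A → B`
  have hex : ∀ a : A, ∃ b : B, ((a : L) = 1 → (b : L) = 1) ∧ ((a : L) ≠ 1 →
      ∀ w ∈ W, (b : L) • ((a : L) • w - w) - ((a : L) • w - w) = w) := by
    intro a
    by_cases ha1 : (a : L) = 1
    · exact ⟨1, fun _ => rfl, fun h' => absurd ha1 h'⟩
    · obtain ⟨b, hb, hinv⟩ := h.inv a a.2 ha1
      exact ⟨⟨b, hb⟩, fun h' => absurd h' ha1, fun _ => hinv⟩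
  choose φ hφ1 hφ using hex
  have hφinj : Function.Injective φ := by
    intro a a' haa
    by_cases ha1 : (a : L) = 1
    · by_cases ha1' : (a' : L) = 1
      · exact Subtype.ext (ha1.trans ha1'.symm)
      · exfalso
        have h1 := h.inv_ne (hφ a' ha1')
        rw [← haa] at h1
        exact h1 (hφ1 a ha1)
    · by_cases ha1' : (a' : L) = 1
      · exfalso
        have h1 := h.inv_ne (hφ a ha1)
        rw [haa] at h1
        exact h1 (hφ1 a' ha1')
      · apply Subtype.ext
        have h1 := hφ a ha1 w₀ hw₀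
        have h2 := hφ a' ha1' w₀ hw₀
        rw [← haa] at h2
        have hb1 := h.inv_ne (hφ a ha1)
        have h3 : ((φ a : B) : L) • (((a : L) • w₀ - w₀) - ((a' : L) • w₀ - w₀)) =
            ((a : L) • w₀ - w₀) - ((a' : L) • w₀ - w₀) := by
          rw [smul_sub]
          have e1 := sub_eq_iff_eq_add.1 h1
          have e2 := sub_eq_iff_eq_add.1 h2
          rw [e1, e2]; abel
        have h4 := (h.inj' _ (φ a).2 _ (U.sub_mem (h.memU a a.2 w₀) (h.memU a' a'.2 w₀)) h3).resolve_left hb1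
        exact h.eq_of_A a.2 a'.2 hw₀ hw₀0 (sub_eq_zero.1 h4)
  have hcard2 : Nat.card A = Nat.card B :=
    le_antisymm (Nat.card_le_card_of_injective φ hφinj) hcard
  have hφsurj : Function.Surjective φ :=
    ((Nat.bijective_iff_injective_and_card φ).2 ⟨hφinj, hcard2⟩).2
  intro b hb hb1
  obtain ⟨a, ha⟩ := hφsurj ⟨b, hb⟩
  have ha1 : (a : L) ≠ 1 := by
    intro h1
    have h2 := hφ1 a h1
    rw [ha] at h2
    exact hb1 h2
  refine ⟨a, a.2, ha1, ?_⟩
  have h3 := hφ a ha1
  rw [ha] at h3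
  exact h3

/-- the endomorphism `w ↦ [b, [a, w]]` of `W` -/
theorem exists_end {a b : L} (hb : b ∈ B) : ∃ f : AddMonoid.End W,
    ∀ w : W, ((f w : W) : M) = b • (a • (w : M) - w) - (a • (w : M) - w) := by
  refine ⟨AddMonoidHom.mk' (fun w => ⟨b • (a • (w : M) - w) - (a • (w : M) - w), h.memW b hb _⟩) ?_, ?_⟩
  · intro v w
    apply Subtype.ext
    show b • (a • ((v : M) + w) - (v + w)) - (a • ((v : M) + w) - (v + w)) = _
    have e : ∀ x y : M, a • (x + y) - (x + y) = (a • x - x) + (a • y - y) := fun x y => by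
      rw [smul_add]; abel
    have e' : ∀ x y : M, b • (x + y) - (x + y) = (b • x - x) + (b • y - y) := fun x y => by
      rw [smul_add]; abel
    rw [e, e']; rfl
  · intro w; rfl

/-- `K`: the maps `w ↦ [b₀, [a, w]]` -/
def K {b₀ : L} (hb₀ : b₀ ∈ B) : AddSubgroup (AddMonoid.End W) where
  carrier := {f | ∃ a ∈ A, ∀ w : W, ((f w : W) : M) = b₀ • (a • (w : M) - w) - (a • (w : M) - w)}
  zero_mem' := by
    refine ⟨1, one_mem _, fun w => ?_⟩
    rw [one_smul, sub_self, smul_zero, sub_zero]; rfl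
  add_mem' := by
    rintro f g ⟨a, ha, hf⟩ ⟨a', ha', hg⟩
    refine ⟨a * a', mul_mem ha ha', fun w => ?_⟩
    rw [h.add_A ha ha']
    show ((f w : W) : M) + (g w : W) = _
    rw [hf, hg, smul_add]; abel
  neg_mem' := by
    rintro f ⟨a, ha, hf⟩
    refine ⟨a⁻¹, inv_mem ha, fun w => ?_⟩
    have h1 : a⁻¹ • (w : M) - w = -(a • (w : M) - w) := by
      have := h.add_A ha (inv_mem ha) (w : M)
      rw [mul_inv_cancel, one_smul, sub_self] at this
      exact (neg_eq_of_add_eq_zero_right this.symm).symm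
    rw [h1, smul_neg]
    show -((f w : W) : M) = _
    rw [hf]; abel

/-- `K'`: the maps `w ↦ [b, [a₀, w]]` -/
def K' {a₀ : L} (ha₀ : a₀ ∈ A) : AddSubgroup (AddMonoid.End W) where
  carrier := {f | ∃ b ∈ B, ∀ w : W, ((f w : W) : M) = b • (a₀ • (w : M) - w) - (a₀ • (w : M) - w)}
  zero_mem' := by
    refine ⟨1, one_mem _, fun w => ?_⟩
    rw [one_smul, sub_self]; rfl
  add_mem' := by
    rintro f g ⟨b, hb, hf⟩ ⟨b', hb', hg⟩
    refine ⟨b * b', mul_mem hb hb', fun w => ?_⟩
    rw [h.add_B hb hb']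
    show ((f w : W) : M) + (g w : W) = _
    rw [hf, hg]
  neg_mem' := by
    rintro f ⟨b, hb, hf⟩
    refine ⟨b⁻¹, inv_mem hb, fun w => ?_⟩
    have h1 : ∀ m : M, b⁻¹ • m - m = -(b • m - m) := by
      intro m
      have := h.add_B hb (inv_mem hb) m
      rw [mul_inv_cancel, one_smul, sub_self] at this
      exact (neg_eq_of_add_eq_zero_right this.symm).symm
    rw [h1]
    show -((f w : W) : M) = _
    rw [hf]

/-- **The spread gives `SL₂(F)` on its natural module.** -/
theorem exists_natural {p : ℕ} [Fact p.Prime] (hp : ∀ m : M, p • m = 0) [Finite A] [Finite W]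
    (hgen : A ⊔ B = ⊤) :
    ∃ (F : Type) (_ : Field F) (_ : Fintype F), Fintype.card F = Nat.card A ∧
      ∃ (ρ : L →* Matrix.SpecialLinearGroup (Fin 2) F) (e : M ≃+ (Fin 2 → F)),
        Function.Surjective ρ ∧ (∀ l m, e (l • m) = (ρ l : Matrix (Fin 2) (Fin 2) F).mulVec (e m)) ∧
        (∀ m, m ∈ U ↔ e m 1 = 0) ∧ (∀ m, m ∈ W ↔ e m 0 = 0) := by
  classical
  obtain ⟨a₀, ha₀, ha₀1⟩ := h.ne
  obtain ⟨b₀, hb₀, h0⟩ := h.inv a₀ ha₀ ha₀1
  have hb₀1 : b₀ ≠ 1 := h.inv_ne h0
  have h0' := h.inv_symm ha₀ hb₀ h0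
  obtain ⟨w₀, hw₀, hw₀0⟩ := h.exists_ne_W
  have hNon : Nontrivial W := ⟨⟨0, ⟨w₀, hw₀⟩, fun he => hw₀0 (congrArg Subtype.val he).symm⟩⟩
  -- the card of `K`
  have hcardK : Nat.card (h.K hb₀) = Nat.card W := by
    rw [← h.card]
    symm
    have hex : ∀ a : A, ∃ f : h.K hb₀, ∀ w : W, (((f : AddMonoid.End W) w : W) : M) =
        b₀ • ((a : L) • (w : M) - w) - ((a : L) • (w : M) - w) := by
      intro a
      obtain ⟨f, hf⟩ := h.exists_end (a := (a : L)) hb₀
      exact ⟨⟨f, a, a.2, hf⟩, hf⟩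
    choose Φ hΦ using hex
    refine Nat.card_congr (Equiv.ofBijective Φ ⟨?_, ?_⟩)
    · intro a a' haa
      apply Subtype.ext
      have h1 := hΦ a ⟨w₀, hw₀⟩
      rw [haa, hΦ a' ⟨w₀, hw₀⟩] at h1
      have h3 : b₀ • (((a : L) • w₀ - w₀) - ((a' : L) • w₀ - w₀)) =
          ((a : L) • w₀ - w₀) - ((a' : L) • w₀ - w₀) := by
        rw [smul_sub]
        have h1' : b₀ • ((a' : L) • w₀ - w₀) - ((a' : L) • w₀ - w₀) =
          b₀ • ((a : L) • w₀ - w₀) - ((a : L) • w₀ - w₀) := h1
        rw [sub_eq_sub_iff_add_eq_add] at h1' ⊢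
        rw [add_comm] at h1'
        rw [add_comm (b₀ • ((a : L) • w₀ - w₀)), h1', add_comm]
      have h4 := (h.inj' _ hb₀ _ (U.sub_mem (h.memU a a.2 w₀) (h.memU a' a'.2 w₀)) h3).resolve_left hb₀1
      exact h.eq_of_A a.2 a'.2 hw₀ hw₀0 (sub_eq_zero.1 h4)
    · rintro ⟨f, a, ha, hf⟩
      refine ⟨⟨a, ha⟩, ?_⟩
      apply Subtype.ext
      refine AddMonoidHom.ext fun w => Subtype.ext ?_
      exact (hΦ ⟨a, ha⟩ w).trans (hf w).symm
  have h1K : (1 : AddMonoid.End W) ∈ h.K hb₀ := ⟨a₀, ha₀, fun w => (h0 w w.2).symm⟩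
  -- mutually inverse maps
  have key : ∀ (f g : AddMonoid.End W) (a b : L), a ∈ A → b ∈ B →
      (∀ w : W, ((f w : W) : M) = b₀ • (a • (w : M) - w) - (a • (w : M) - w)) →
      (∀ w : W, ((g w : W) : M) = b • (a₀ • (w : M) - w) - (a₀ • (w : M) - w)) →
      (∀ w ∈ W, b • (a • w - w) - (a • w - w) = w) → f * g = 1 ∧ g * f = 1 := by
    intro f g a b ha hb hf hg hab
    have hab' := h.inv_symm ha hb hab
    constructor
    · refine AddMonoidHom.ext fun w => Subtype.ext ?_
      show ((f (g w) : W) : M) = w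
      rw [hf, hg]
      rw [hab' _ (h.memU a₀ ha₀ _)]
      exact h0 w w.2
    · refine AddMonoidHom.ext fun w => Subtype.ext ?_
      show ((g (f w) : W) : M) = w
      rw [hg, hf]
      rw [h0' _ (h.memU a ha _)]
      exact hab w w.2
  have hKL : ∀ k ∈ h.K hb₀, k ≠ 0 → ∃ l ∈ h.K' ha₀, k * l = 1 ∧ l * k = 1 := by
    rintro f ⟨a, ha, hf⟩ hf0
    have ha1 : a ≠ 1 := by
      rintro rfl
      apply hf0
      refine AddMonoidHom.ext fun w => Subtype.ext ?_
      show ((f w : W) : M) = 0
      rw [hf, one_smul, sub_self, smul_zero, sub_zero]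
    obtain ⟨b, hb, hab⟩ := h.inv a ha ha1
    obtain ⟨g, hg⟩ := h.exists_end (a := a₀) hb
    exact ⟨g, ⟨b, hb, hg⟩, key f g a b ha hb hf hg hab⟩
  have hLK : ∀ l ∈ h.K' ha₀, l ≠ 0 → ∃ k ∈ h.K hb₀, k * l = 1 ∧ l * k = 1 := by
    rintro g ⟨b, hb, hg⟩ hg0
    have hb1 : b ≠ 1 := by
      rintro rfl
      apply hg0
      refine AddMonoidHom.ext fun w => Subtype.ext ?_
      show ((g w : W) : M) = 0
      rw [hg, one_smul, sub_self]
    obtain ⟨a, ha, -, hab⟩ := h.inv' b hb hb1
    obtain ⟨f, hf⟩ := h.exists_end (a := a) hb₀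
    exact ⟨f, ⟨a, ha, hf⟩, key f g a b ha hb hf hg hab⟩
  obtain ⟨F, iF, iFin, hcF, eW, hK, hK'⟩ := Cfsg.Agent.H218.SpreadField.exists_field (p := p)
    (A := W) (fun w => Subtype.ext (by rw [AddSubgroup.coe_nsmul]; exact hp w)) (h.K hb₀) (h.K' ha₀)
    hcardK h1K hKL hLK
  -- decomposition
  choose uu huu ww hww hsum using h.sup
  have huniq : ∀ u ∈ U, ∀ w ∈ W, ∀ u' ∈ U, ∀ w' ∈ W, u + w = u' + w' → u = u' ∧ w = w' := by
    intro u hu w hw u' hu' w' hw' he
    have h1 : u - u' = w' - w := by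
      rw [sub_eq_sub_iff_add_eq_add, he, add_comm]
    have h2 := h.inf (u - u') (U.sub_mem hu hu') (h1 ▸ W.sub_mem hw' hw)
    have h3 : w' - w = 0 := by rw [← h1, h2]
    exact ⟨sub_eq_zero.1 h2, (sub_eq_zero.1 h3).symm⟩
  have huw : ∀ u ∈ U, ∀ w ∈ W, uu (u + w) = u ∧ ww (u + w) = w := fun u hu w hw =>
    huniq _ (huu _) _ (hww _) _ hu _ hw (hsum _)
  have hadd : ∀ m m', uu (m + m') = uu m + uu m' ∧ ww (m + m') = ww m + ww m' := by
    intro m m'
    have := huw (uu m + uu m') (U.add_mem (huu _) (huu _)) (ww m + ww m') (W.add_mem (hww _) (hww _))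
    have e : uu m + uu m' + (ww m + ww m') = m + m' := by
      rw [add_add_add_comm, hsum, hsum]
    rwa [e] at this
  -- coordinate maps
  let c0 : M → F := fun m => eW ⟨b₀ • uu m - uu m, h.memW b₀ hb₀ _⟩
  let c1 : M → F := fun m => eW ⟨ww m, hww m⟩
  have hc0 : ∀ m m', c0 (m + m') = c0 m + c0 m' := by
    intro m m'
    show eW _ = eW _ + eW _
    rw [← map_add]
    congr 1
    apply Subtype.ext
    show b₀ • uu (m + m') - uu (m + m') = (b₀ • uu m - uu m) + (b₀ • uu m' - uu m')
    rw [(hadd m m').1, smul_add]; abel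
  have hc1 : ∀ m m', c1 (m + m') = c1 m + c1 m' := by
    intro m m'
    show eW _ = eW _ + eW _
    rw [← map_add]
    congr 1
    apply Subtype.ext
    exact (hadd m m').2
  let e0 : M →+ (Fin 2 → F) := AddMonoidHom.mk' (fun m => ![c0 m, c1 m]) (by
    intro m m'
    ext i
    fin_cases i
    · exact hc0 m m'
    · exact hc1 m m')
  have hc0z : ∀ m, c0 m = 0 → uu m = 0 := by
    intro m hm
    have h1 : b₀ • uu m - uu m = 0 := by
      have := (map_eq_zero_iff eW eW.injective).1 hm
      exact congrArg Subtype.val this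
    exact (h.inj' b₀ hb₀ _ (huu m) (sub_eq_zero.1 h1)).resolve_left hb₀1
  have hc1z : ∀ m, c1 m = 0 → ww m = 0 := by
    intro m hm
    have := (map_eq_zero_iff eW eW.injective).1 hm
    exact congrArg Subtype.val this
  have he0inj : Function.Injective e0 := by
    rw [injective_iff_map_eq_zero]
    intro m hm
    have h1 : c0 m = 0 := congrFun hm 0
    have h2 : c1 m = 0 := congrFun hm 1
    rw [← hsum m, hc0z m h1, hc1z m h2, add_zero]
  have he0surj : Function.Surjective e0 := by
    intro x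
    obtain ⟨w1, hw1⟩ := eW.surjective (x 1)
    obtain ⟨w2, hw2⟩ := eW.surjective (x 0)
    refine ⟨(a₀ • (w2 : M) - w2) + w1, ?_⟩
    obtain ⟨h1, h2⟩ := huw (a₀ • (w2 : M) - w2) (h.memU a₀ ha₀ _) w1 w1.2
    ext i
    fin_cases i
    · show eW _ = x 0
      rw [← hw2]
      congr 1
      apply Subtype.ext
      show b₀ • uu _ - uu _ = (w2 : M)
      rw [h1]
      exact h0 w2 w2.2
    · show eW _ = x 1
      rw [← hw1]
      congr 1
      exact Subtype.ext h2
  let e : M ≃+ (Fin 2 → F) := AddEquiv.ofBijective e0 ⟨he0inj, he0surj⟩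
  have he : ∀ m, e m = ![c0 m, c1 m] := fun m => rfl
  -- `A` acts by upper unitriangular matrices
  have hA : ∀ a ∈ A, ∃ c : F, ∀ m, e (a • m) = (u c : Matrix (Fin 2) (Fin 2) F).mulVec (e m) := by
    intro a ha
    obtain ⟨f, hf⟩ := h.exists_end (a := a) hb₀
    obtain ⟨c, hc⟩ := (hK f).1 ⟨a, ha, hf⟩
    refine ⟨c, fun m => ?_⟩
    have h1 : a • m = (uu m + (a • ww m - ww m)) + ww m := by
      conv_lhs => rw [← hsum m, smul_add, h.fixU a ha _ (huu m)]
      abel
    obtain ⟨h2, h3⟩ := huw (uu m + (a • ww m - ww m)) (U.add_mem (huu m) (h.memU a ha _)) (ww m) (hww m)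
    rw [← h1] at h2 h3
    have h4 : c0 (a • m) = c0 m + c * c1 m := by
      show eW _ = eW _ + c * eW _
      rw [← hc, ← map_add]
      congr 1
      apply Subtype.ext
      show b₀ • uu (a • m) - uu (a • m) = (b₀ • uu m - uu m) + (f ⟨ww m, hww m⟩ : W)
      rw [hf, h2, smul_add]; abel
    have h5 : c1 (a • m) = c1 m := by
      show eW _ = eW _
      congr 1
      exact Subtype.ext h3
    rw [he, he, h4, h5, coe_u]
    ext i
    fin_cases i <;> simp [mul_comm]
  have hB : ∀ b ∈ B, ∃ c : F, ∀ m, e (b • m) = (l c : Matrix (Fin 2) (Fin 2) F).mulVec (e m) := by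
    intro b hb
    obtain ⟨g, hg⟩ := h.exists_end (a := a₀) hb
    obtain ⟨c, hc⟩ := (hK' g).1 ⟨b, hb, hg⟩
    refine ⟨c, fun m => ?_⟩
    have h1 : b • m = uu m + ((b • uu m - uu m) + ww m) := by
      conv_lhs => rw [← hsum m, smul_add, h.fixW b hb _ (hww m)]
      abel
    obtain ⟨h2, h3⟩ := huw (uu m) (huu m) ((b • uu m - uu m) + ww m) (W.add_mem (h.memW b hb _) (hww m))
    rw [← h1] at h2 h3
    have h4 : c0 (b • m) = c0 m := by
      show eW _ = eW _
      congr 1
      apply Subtype.ext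
      show b₀ • uu (b • m) - uu (b • m) = b₀ • uu m - uu m
      rw [h2]
    have h5 : c1 (b • m) = c * c0 m + c1 m := by
      show eW _ = c * eW _ + eW _
      rw [← hc, ← map_add]
      congr 1
      apply Subtype.ext
      show ww (b • m) = ((g ⟨b₀ • uu m - uu m, _⟩ : W) : M) + ww m
      rw [hg, h3, h0' _ (huu m)]
    rw [he, he, h4, h5, coe_l]
    ext i
    fin_cases i <;> simp [mul_comm]
  -- all of `L`
  let S : Subgroup L :=
    { carrier := {x | ∃ g : Matrix.SpecialLinearGroup (Fin 2) F,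
        ∀ m, e (x • m) = (g : Matrix (Fin 2) (Fin 2) F).mulVec (e m)}
      one_mem' := ⟨1, fun m => by simp⟩
      mul_mem' := by
        rintro x y ⟨g, hg⟩ ⟨k, hk⟩
        refine ⟨g * k, fun m => ?_⟩
        rw [mul_smul, hg, hk, Matrix.mulVec_mulVec, Matrix.SpecialLinearGroup.coe_mul]
      inv_mem' := by
        rintro x ⟨g, hg⟩
        refine ⟨g⁻¹, fun m => ?_⟩
        have h1 := hg (x⁻¹ • m)
        rw [smul_inv_smul] at h1
        rw [h1, Matrix.mulVec_mulVec, ← Matrix.SpecialLinearGroup.coe_mul, inv_mul_cancel,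
          Matrix.SpecialLinearGroup.coe_one, Matrix.one_mulVec] }
  have hS : S = ⊤ := by
    rw [eq_top_iff, ← hgen]
    refine sup_le ?_ ?_
    · intro a ha
      obtain ⟨c, hc⟩ := hA a ha
      exact ⟨u c, hc⟩
    · intro b hb
      obtain ⟨c, hc⟩ := hB b hb
      exact ⟨l c, hc⟩
  have hall : ∀ x : L, ∃ g : Matrix.SpecialLinearGroup (Fin 2) F,
      ∀ m, e (x • m) = (g : Matrix (Fin 2) (Fin 2) F).mulVec (e m) := by
    intro x
    have : x ∈ S := by rw [hS]; trivial
    exact this
  have hext : ∀ g k : Matrix.SpecialLinearGroup (Fin 2) F,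
      (∀ m, (g : Matrix (Fin 2) (Fin 2) F).mulVec (e m) = (k : Matrix (Fin 2) (Fin 2) F).mulVec (e m)) →
      g = k := by
    intro g k hgk
    apply ext_coe
    apply Matrix.toLin'.injective
    apply LinearMap.ext
    intro x
    obtain ⟨m, rfl⟩ := e.surjective x
    simpa using hgk m
  choose r hr using hall
  let ρ : L →* Matrix.SpecialLinearGroup (Fin 2) F := MonoidHom.mk' r (by
    intro x y
    apply hext
    intro m
    rw [← hr, mul_smul, hr, hr, Matrix.mulVec_mulVec, Matrix.SpecialLinearGroup.coe_mul])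
  have hρ : ∀ x m, e (x • m) = (ρ x : Matrix (Fin 2) (Fin 2) F).mulVec (e m) := hr
  refine ⟨F, iF, iFin, by rw [hcF, h.card], ρ, e, ?_, hρ, ?_, ?_⟩
  · rw [← MonoidHom.range_eq_top]
    apply eq_top_of_u_mem_of_l_mem
    · intro c
      -- multiplication by `c` is in `K`
      obtain ⟨f, hf⟩ : ∃ f : AddMonoid.End W, ∀ w, eW (f w) = c * eW w := by
        refine ⟨AddMonoidHom.mk' (fun w => eW.symm (c * eW w)) (fun v w => ?_), fun w => ?_⟩
        · rw [map_add, mul_add, map_add]
        · show eW (eW.symm _) = _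
          rw [AddEquiv.apply_symm_apply]
      obtain ⟨a, ha, haf⟩ := (hK f).2 ⟨c, hf⟩
      obtain ⟨c', hc'⟩ := hA a ha
      refine ⟨a, ?_⟩
      have h1 : ρ a = u c' := hext _ _ fun m => by rw [← hρ, hc']
      rw [h1]
      -- compare `c'` with `c`
      have h2 := hc' w₀
      have h3 : c0 (a • w₀) = c0 w₀ + c' * c1 w₀ := by
        have := congrFun h2 0
        rw [he, he, coe_u] at this
        simpa [mul_comm] using this
      have hw0 : uu w₀ = 0 ∧ ww w₀ = w₀ := by
        have := huw 0 (zero_mem _) w₀ hw₀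
        rwa [zero_add] at this
      have haw : uu (a • w₀) = a • w₀ - w₀ := by
        have := (huw (a • w₀ - w₀) (h.memU a ha _) w₀ hw₀).1
        rwa [sub_add_cancel] at this
      have h4 : c0 w₀ = 0 := by
        show eW _ = 0
        have : (⟨b₀ • uu w₀ - uu w₀, h.memW b₀ hb₀ _⟩ : W) = 0 := by
          apply Subtype.ext
          show b₀ • uu w₀ - uu w₀ = 0
          rw [hw0.1, smul_zero, sub_zero]
        rw [this, map_zero]
      have h5 : c1 w₀ = eW ⟨w₀, hw₀⟩ := by
        show eW _ = _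
        congr 1
        exact Subtype.ext hw0.2
      have h6 : c0 (a • w₀) = c * eW ⟨w₀, hw₀⟩ := by
        rw [← hf]
        show eW _ = _
        congr 1
        apply Subtype.ext
        rw [haf]
        show b₀ • uu (a • w₀) - uu (a • w₀) = _
        rw [haw]
      rw [h4, h5, h6, zero_add] at h3
      have h7 : eW ⟨w₀, hw₀⟩ ≠ 0 := by
        rw [Ne, map_eq_zero_iff eW eW.injective]
        intro h8
        exact hw₀0 (congrArg Subtype.val h8)
      rw [mul_right_cancel₀ h7 h3]
    · intro c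
      obtain ⟨f, hf⟩ : ∃ f : AddMonoid.End W, ∀ w, eW (f w) = c * eW w := by
        refine ⟨AddMonoidHom.mk' (fun w => eW.symm (c * eW w)) (fun v w => ?_), fun w => ?_⟩
        · rw [map_add, mul_add, map_add]
        · show eW (eW.symm _) = _
          rw [AddEquiv.apply_symm_apply]
      obtain ⟨b, hb, hbf⟩ := (hK' f).2 ⟨c, hf⟩
      obtain ⟨c', hc'⟩ := hB b hb
      refine ⟨b, ?_⟩
      have h1 : ρ b = l c' := hext _ _ fun m => by rw [← hρ, hc']
      rw [h1]
      set u₀ := a₀ • w₀ - w₀ with hu₀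
      have hu₀U : u₀ ∈ U := h.memU a₀ ha₀ w₀
      have h2 := hc' u₀
      have h3 : c1 (b • u₀) = c' * c0 u₀ + c1 u₀ := by
        have := congrFun h2 1
        rw [he, he, coe_l] at this
        simpa [mul_comm] using this
      have hu0 : uu u₀ = u₀ ∧ ww u₀ = 0 := by
        have := huw u₀ hu₀U 0 (zero_mem _)
        rwa [add_zero] at this
      have hbw : ww (b • u₀) = b • u₀ - u₀ := by
        have := (huw u₀ hu₀U (b • u₀ - u₀) (h.memW b hb _)).2
        rwa [add_sub_cancel] at this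
      have h4 : c1 u₀ = 0 := by
        show eW _ = 0
        have : (⟨ww u₀, hww _⟩ : W) = 0 := Subtype.ext hu0.2
        rw [this, map_zero]
      have h5 : c0 u₀ = eW ⟨w₀, hw₀⟩ := by
        show eW _ = _
        congr 1
        apply Subtype.ext
        show b₀ • uu u₀ - uu u₀ = w₀
        rw [hu0.1]
        exact h0 w₀ hw₀
      have h6 : c1 (b • u₀) = c * eW ⟨w₀, hw₀⟩ := by
        rw [← hf]
        show eW _ = _
        congr 1
        apply Subtype.ext
        rw [hbf]
        exact hbw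
      rw [h4, h5, h6, add_zero] at h3
      have h7 : eW ⟨w₀, hw₀⟩ ≠ 0 := by
        rw [Ne, map_eq_zero_iff eW eW.injective]
        intro h8
        exact hw₀0 (congrArg Subtype.val h8)
      rw [mul_right_cancel₀ h7 h3]
  · intro m
    constructor
    · intro hm
      show c1 m = 0
      have hu0 : ww m = 0 := by
        have := (huw m hm 0 (zero_mem _)).2
        rwa [add_zero] at this
      show eW _ = 0
      have : (⟨ww m, hww _⟩ : W) = 0 := Subtype.ext hu0
      rw [this, map_zero]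
    · intro hm
      have h1 : ww m = 0 := hc1z m hm
      rw [← hsum m, h1, add_zero]
      exact huu m
  · intro m
    constructor
    · intro hm
      show c0 m = 0
      have hu0 : uu m = 0 := by
        have := (huw 0 (zero_mem _) m hm).1
        rwa [zero_add] at this
      show eW _ = 0
      have : (⟨b₀ • uu m - uu m, h.memW b₀ hb₀ _⟩ : W) = 0 := by
        apply Subtype.ext
        show b₀ • uu m - uu m = 0
        rw [hu0, smul_zero, sub_zero]
      rw [this, map_zero]
    · intro hm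
      have h1 : uu m = 0 := hc0z m hm
      rw [← hsum m, h1, zero_add]
      exact hww m

end Spread

end Cfsg.Agent.H218.SpreadNat
end
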